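import Groth.Agent.L10.AcycColim.Trunc
import Groth.Agent.L10.HomotopyProd
import Groth.Agent.L10.KInjTransfer
import Groth.Agent.L10.KInjDerived
import Groth.Agent.L10.ClassRes
import Groth.Agent.L17.AcyclicMap
import Mathlib.CategoryTheory.Limits.Constructions.Filtered
import Mathlib.CategoryTheory.Abelian.GrothendieckCategory.EnoughInjectives
import Mathlib.Algebra.Category.Grp.AB
import Mathlib.Algebra.Homology.HomotopyCategory.KInjective

/-! # A right derived functor preserving countable sums is computed by complexes of acyclic objects -/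

universe w w' v u

open CategoryTheory CategoryTheory.Limits CoproductsFromFiniteFiltered ZeroObject

set_option backward.defeqAttrib.useBackward true
set_option backward.isDefEq.respectTransparency false
set_option backward.isDefEq.respectTransparency.types false
set_option linter.style.haveILetI false

namespace Groth.L10.AcycColim

/-- An additive functor preserving filtered colimits preserves coproducts. -/
theorem preservesColimitsOfShape_discrete {A : Type*} [Category A] [Preadditive A]
    [HasFiniteCoproducts A] {B : Type*} [Category B] [Preadditive B] (G : A ⥤ B) [G.Additive]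
    (ι : Type v) [HasColimitsOfShape (Finset (Discrete ι)) A] [HasColimitsOfShape (Discrete ι) A]
    [PreservesColimitsOfShape (Finset (Discrete ι)) G] : PreservesColimitsOfShape (Discrete ι) G := by
  refine ⟨fun {K} => ?_⟩
  suffices h : PreservesColimit (Discrete.functor fun i => K.obj ⟨i⟩) G by
    haveI : PreservesColimit (Discrete.functor (K.obj ∘ Discrete.mk)) G := h
    exact preservesColimit_of_iso_diagram G (Discrete.natIsoFunctor (F := K)).symm
  let c : ι → A := fun i => K.obj ⟨i⟩
  haveI : PreservesFiniteCoproducts G := inferInstance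
  let hS : ∀ T : Finset (Discrete ι), IsColimit (Cofan.mk (G.obj (∐ fun x : T => c x.1.as))
      fun x => G.map (Sigma.ι (fun x : T => c x.1.as) x)) := fun T =>
    isColimitOfHasCoproductOfPreservesColimit G (fun x : T => c x.1.as)
  let hF := isColimitOfPreserves G (isColimitFiniteSubproductsCocone c)
  let dS : ∀ (s : Cofan fun i => G.obj (c i)) (T : Finset (Discrete ι)),
      G.obj (∐ fun x : T => c x.1.as) ⟶ s.pt := fun s T =>
    Cofan.IsColimit.desc (hS T) fun x => s.inj x.1.as
  have hd : ∀ (s : Cofan fun i => G.obj (c i)) (T : Finset (Discrete ι)) (x : T),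
      G.map (Sigma.ι (fun x : T => c x.1.as) x) ≫ dS s T = s.inj x.1.as := fun s T x =>
    Cofan.IsColimit.fac (hS T) _ x
  let Tc : ∀ s : Cofan fun i => G.obj (c i), Cocone (liftToFinsetObj (Discrete.functor c) ⋙ G) := fun s =>
    { pt := s.pt
      ι :=
        { app := dS s
          naturality := fun T T' g => by
            refine Cofan.IsColimit.hom_ext (hS T) _ _ fun x => ?_
            change G.map (Sigma.ι (fun x : T => c x.1.as) x) ≫
              G.map ((liftToFinsetObj (Discrete.functor c)).map g) ≫ dS s T' =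
              G.map (Sigma.ι (fun x : T => c x.1.as) x) ≫ dS s T ≫ 𝟙 _
            rw [← Category.assoc, ← G.map_comp, Category.comp_id, hd]
            simp only [liftToFinsetObj_map, Discrete.functor_obj_eq_as, Sigma.ι_desc]
            exact hd s T' _ } }
  refine preservesColimit_of_preserves_colimit_cocone (coproductIsCoproduct c) ((isColimitMapCoconeCofanMkEquiv G _ _).2 ?_)
  refine mkCofanColimit _ (fun s => hF.desc (Tc s)) (fun s i => ?_) fun s m hm => ?_
  · simp only [cofan_mk_inj]
    have hf := hF.fac (Tc s) {Discrete.mk i}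
    rw [← hd s {Discrete.mk i} ⟨Discrete.mk i, Finset.mem_singleton_self _⟩]
    change _ = _ ≫ (Tc s).ι.app {Discrete.mk i}
    rw [← hf, ← Category.assoc, Functor.mapCocone_ι_app, ← G.map_comp]
    simp [finiteSubcoproductsCocone]
  · refine hF.hom_ext fun T => ?_
    rw [hF.fac]
    refine Cofan.IsColimit.hom_ext (hS T) _ _ fun x => ?_
    change G.map (Sigma.ι (fun x : T => c x.1.as) x) ≫ G.map ((finiteSubcoproductsCocone c).ι.app T) ≫ m =
      G.map (Sigma.ι (fun x : T => c x.1.as) x) ≫ dS s T
    rw [← Category.assoc, ← G.map_comp, hd]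
    simp only [finiteSubcoproductsCocone, Sigma.ι_desc]
    exact hm x.1.as

variable {A : Type u} [Category.{v} A] [Abelian A] [IsGrothendieckAbelian.{v} A]
  (F : A ⥤ AddCommGrpCat.{v}) [F.Additive] [PreservesFiniteLimits F]
  (hcolim : ∀ (n : ℕ) (J : Type v) [SmallCategory J] [IsFiltered J], PreservesColimitsOfShape J (F.rightDerived n))

include hcolim in
theorem preserves_countable : PreservesColimitsOfShape (Discrete ℕ) F := by
  haveI := hcolim 0 (Finset (Discrete (ULift.{v} ℕ)))
  haveI : PreservesColimitsOfShape (Finset (Discrete (ULift.{v} ℕ))) F :=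
    preservesColimitsOfShape_of_natIso F.rightDerivedZeroIsoSelf
  haveI := preservesColimitsOfShape_discrete F (ULift.{v} ℕ)
  exact preservesColimitsOfShape_of_equiv (Discrete.equivalence Equiv.ulift) F

variable [HasDerivedCategory.{w} A] [HasDerivedCategory.{w'} AddCommGrpCat.{v}]

section

variable {RF : DerivedCategory A ⥤ DerivedCategory AddCommGrpCat.{v}}
  (α : F.mapHomotopyCategory (ComplexShape.up ℤ) ⋙ DerivedCategory.Qh ⟶ DerivedCategory.Qh ⋙ RF)
  [RF.IsRightDerivedFunctor α (HomotopyCategory.quasiIso A (ComplexShape.up ℤ))]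

local notation "qA" => HomotopyCategory.quotient A (ComplexShape.up ℤ)

omit [PreservesFiniteLimits F] in
/-- The unit is invertible once a resolution by a K-injective complex is mapped to a quasi-isomorphism. -/
theorem isIso_of_resolution {K J : CochainComplex A ℤ} (s : K ⟶ J) [QuasiIso s] [J.IsKInjective]
    [QuasiIso ((F.mapHomologicalComplex (.up ℤ)).map s)] : IsIso (α.app ((qA).obj K)) := by
  haveI : IsIso (α.app ((qA).obj J)) := KInjDerived.isIso_app_quotient α J
  haveI h1 : IsIso (DerivedCategory.Qh.map ((qA).map s)) :=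
    Localization.inverts DerivedCategory.Qh (HomotopyCategory.quasiIso _ (ComplexShape.up ℤ)) _
      ((HomotopyCategory.quotient_map_mem_quasiIso_iff s).2 ((HomologicalComplex.mem_quasiIso_iff _).2 ‹_›))
  haveI h2 : IsIso ((F.mapHomotopyCategory (ComplexShape.up ℤ) ⋙ DerivedCategory.Qh).map ((qA).map s)) :=
    Localization.inverts DerivedCategory.Qh (HomotopyCategory.quasiIso _ (ComplexShape.up ℤ)) ((HomotopyCategory.quotient AddCommGrpCat.{v} (ComplexShape.up ℤ)).map ((F.mapHomologicalComplex (.up ℤ)).map s))
      ((HomotopyCategory.quotient_map_mem_quasiIso_iff _).2 ((HomologicalComplex.mem_quasiIso_iff _).2 ‹_›))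
  have h3 : IsIso (α.app ((qA).obj K) ≫ RF.map (DerivedCategory.Qh.map ((qA).map s))) :=
    (congrArg IsIso (α.naturality ((qA).map s))).mp (IsIso.comp_isIso' h2 ‹_›)
  exact IsIso.of_isIso_comp_right _ (RF.map (DerivedCategory.Qh.map ((qA).map s)))

/-- Bounded below complexes of acyclic objects. -/
theorem isIso_bounded (K : CochainComplex A ℤ) (a : ℤ) [K.IsStrictlyGE a]
    (hK : ∀ n, L17.GrothSS.RAcyclic F (K.X n)) : IsIso (α.app ((qA).obj K)) := by
  obtain ⟨J, s, hJ, hinj, -, hs⟩ := ClassRes.exists_res (fun X : A => Injective X)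
    (fun X => ⟨Injective.under X, Injective.ι X, inferInstance, inferInstance⟩)
    ⟨0, isZero_zero A, (isZero_zero A).injective⟩ K a
  haveI := hJ
  haveI := hs
  haveI := hinj
  haveI : J.IsKInjective := CochainComplex.isKInjective_of_injective J a
  haveI : QuasiIso ((F.mapHomologicalComplex (.up ℤ)).map s) :=
    L17.GrothSS.quasiIso_map F s a a hK fun n q hq => by
      obtain ⟨k, rfl⟩ : ∃ k, q = k + 1 := ⟨q - 1, by omega⟩
      exact F.isZero_rightDerived_obj_injective_succ k _
  exact isIso_of_resolution F α s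

include hcolim in
/-- The unit at a countable sum. -/
theorem isIso_sum [HasColimitsOfShape (Discrete ℕ) (DerivedCategory A)] [PreservesColimitsOfShape (Discrete ℕ) RF]
    (I : ℕ → CochainComplex A ℤ) (h : ∀ n, IsIso (α.app ((qA).obj (I n)))) :
    IsIso (α.app ((qA).obj (∐ I))) := by
  haveI := preserves_countable F hcolim
  let G := F.mapHomologicalComplex (ComplexShape.up ℤ)
  have hcA : IsColimit (Cofan.mk (DerivedCategory.Qh.obj ((qA).obj (∐ I)))
      fun n => DerivedCategory.Qh.map ((qA).map (Sigma.ι I n))) :=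
    Cofan.IsColimit.mk _ (fun t => ((DerivedProd.hom_from_coproduct_bijective I t.pt).surjective t.inj).choose)
      (fun t n => congrFun ((DerivedProd.hom_from_coproduct_bijective I t.pt).surjective t.inj).choose_spec n)
      (fun t m hm => (DerivedProd.hom_from_coproduct_bijective I t.pt).injective (funext fun n => by
        exact (hm n).trans (congrFun ((DerivedProd.hom_from_coproduct_bijective I t.pt).surjective t.inj).choose_spec n).symm))
  have hRF := isColimitCofanMkObjOfIsColimit RF _ _ hcA
  haveI : ∀ p, PreservesColimit (Discrete.functor I)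
      (G ⋙ HomologicalComplex.eval AddCommGrpCat.{v} (ComplexShape.up ℤ) p) := fun p =>
    inferInstanceAs (PreservesColimit (Discrete.functor I) (HomologicalComplex.eval A (ComplexShape.up ℤ) p ⋙ F))
  have hG : IsColimit (Cofan.mk (G.obj (∐ I)) fun n => G.map (Sigma.ι I n)) :=
    isColimitMapCoconeCofanMkEquiv G _ _ (HomologicalComplex.isColimitOfEval _ _ fun p =>
      isColimitOfPreserves (G ⋙ HomologicalComplex.eval AddCommGrpCat.{v} (ComplexShape.up ℤ) p) (coproductIsCoproduct I))
  let θ : (∐ fun n => G.obj (I n)) ≅ G.obj (∐ I) := (coproductIsCoproduct _).coconePointUniqueUpToIso hG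
  have hθ : ∀ n, Sigma.ι (fun n => G.obj (I n)) n ≫ θ.hom = G.map (Sigma.ι I n) := fun n =>
    (coproductIsCoproduct _).comp_coconePointUniqueUpToIso_hom hG ⟨n⟩
  let Qθ : DerivedCategory.Qh.obj ((HomotopyCategory.quotient AddCommGrpCat.{v} (ComplexShape.up ℤ)).obj (∐ fun n => G.obj (I n))) ≅ DerivedCategory.Qh.obj ((HomotopyCategory.quotient AddCommGrpCat.{v} (ComplexShape.up ℤ)).obj (G.obj (∐ I))) :=
    DerivedCategory.Qh.mapIso ((HomotopyCategory.quotient AddCommGrpCat.{v} (ComplexShape.up ℤ)).mapIso θ)
  have hb := DerivedProd.hom_from_coproduct_bijective fun n => G.obj (I n)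
  obtain ⟨g, hg⟩ := (hb (RF.obj (DerivedCategory.Qh.obj ((qA).obj (∐ I))))).surjective
    fun n => α.app ((qA).obj (I n)) ≫ RF.map (DerivedCategory.Qh.map ((qA).map (Sigma.ι I n)))
  haveI := h
  let back := Cofan.IsColimit.desc hRF fun n => inv (α.app ((qA).obj (I n))) ≫
    DerivedCategory.Qh.map ((HomotopyCategory.quotient AddCommGrpCat.{v} (ComplexShape.up ℤ)).map (Sigma.ι (fun n => G.obj (I n)) n))
  have hback : ∀ n, RF.map (DerivedCategory.Qh.map ((qA).map (Sigma.ι I n))) ≫ back =
      inv (α.app ((qA).obj (I n))) ≫ DerivedCategory.Qh.map ((HomotopyCategory.quotient AddCommGrpCat.{v} (ComplexShape.up ℤ)).map (Sigma.ι (fun n => G.obj (I n)) n)) :=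
    fun n => Cofan.IsColimit.fac hRF _ n
  have hga : g = Qθ.hom ≫ α.app ((qA).obj (∐ I)) := (hb _).injective (funext fun n => by
    refine (congrFun hg n).trans ((α.naturality ((qA).map (Sigma.ι I n))).symm.trans ?_)
    show DerivedCategory.Qh.map ((HomotopyCategory.quotient AddCommGrpCat.{v} (ComplexShape.up ℤ)).map (G.map (Sigma.ι I n))) ≫ _ = _
    simp only [Qθ, Functor.mapIso_hom]
    rw [← Category.assoc, ← Functor.map_comp, ← Functor.map_comp, hθ n])
  have h1 : g ≫ back = 𝟙 _ := (hb _).injective (funext fun n => by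
    refine (Category.assoc _ _ _).symm.trans ((congrArg (· ≫ back) (congrFun hg n)).trans ?_)
    rw [Category.assoc, hback n, IsIso.hom_inv_id_assoc]
    exact (Category.comp_id _).symm)
  have h2 : back ≫ g = 𝟙 _ := Cofan.IsColimit.hom_ext hRF _ _ fun n => by
    refine (Category.assoc _ _ _).symm.trans ((congrArg (· ≫ g) (hback n)).trans ?_)
    rw [Category.assoc]
    refine (congrArg (inv (α.app ((qA).obj (I n))) ≫ ·) (congrFun hg n)).trans ?_
    rw [IsIso.inv_hom_id_assoc]
    exact (Category.comp_id _).symm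
  haveI : IsIso g := ⟨back, h1, h2⟩
  haveI : IsIso (Qθ.hom ≫ α.app ((qA).obj (∐ I))) := hga ▸ inferInstance
  exact IsIso.of_isIso_comp_left Qθ.hom _

variable [HasColimitsOfShape (Discrete ℕ) (DerivedCategory A)] [PreservesColimitsOfShape (Discrete ℕ) RF]

include hcolim α in
/-- Acyclic complexes of acyclic objects stay acyclic. -/
theorem acyclic_map (K : CochainComplex A ℤ) (hK : K.Acyclic) (hA : ∀ n, L17.GrothSS.RAcyclic F (K.X n)) :
    ((F.mapHomologicalComplex (.up ℤ)).obj K).Acyclic := by
  let G := F.mapHomologicalComplex (ComplexShape.up ℤ)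
  have hs : ∀ n, IsIso (α.app ((qA).obj (sig K n))) := fun n => isIso_bounded F α _ (-(n : ℤ)) fun p => by
    by_cases h : -(n : ℤ) ≤ p
    · show L17.GrothSS.RAcyclic F (X' K n p)
      rw [X', if_pos h]
      exact hA p
    · exact L17.GrothSS.rAcyclic_of_isZero F (isZero_X' K h)
  haveI := isIso_sum F hcolim α (sig K) hs
  haveI hq : QuasiIso (oneSub K) := quasiIso_f (shortExact_tele K) hK
  have h1 : IsIso (DerivedCategory.Qh.map ((qA).map (oneSub K))) :=
    Localization.inverts DerivedCategory.Qh (HomotopyCategory.quasiIso _ (ComplexShape.up ℤ)) _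
      ((HomotopyCategory.quotient_map_mem_quasiIso_iff _).2 ((HomologicalComplex.mem_quasiIso_iff _).2 hq))
  have h2 : IsIso ((F.mapHomotopyCategory (ComplexShape.up ℤ) ⋙ DerivedCategory.Qh).map ((qA).map (oneSub K)) ≫
      α.app ((qA).obj (∐ sig K))) :=
    (congrArg IsIso (α.naturality ((qA).map (oneSub K)))).mpr
      (IsIso.comp_isIso' ‹IsIso (α.app ((qA).obj (∐ sig K)))› (inferInstanceAs (IsIso (RF.map (DerivedCategory.Qh.map ((qA).map (oneSub K)))))))
  haveI h2' : IsIso (DerivedCategory.Qh.map ((HomotopyCategory.quotient AddCommGrpCat.{v} (ComplexShape.up ℤ)).map (G.map (oneSub K))) ≫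
      α.app ((qA).obj (∐ sig K))) := h2
  have h3 : IsIso (DerivedCategory.Qh.map ((HomotopyCategory.quotient AddCommGrpCat.{v} (ComplexShape.up ℤ)).map (G.map (oneSub K)))) :=
    IsIso.of_isIso_comp_right _ (α.app ((qA).obj (∐ sig K)))
  have h4 : QuasiIso (G.map (oneSub K)) :=
    (DerivedCategory.isIso_Q_map_iff_quasiIso (C := AddCommGrpCat.{v}) _).1
      ((NatIso.isIso_map_iff (DerivedCategory.quotientCompQhIso AddCommGrpCat.{v}) _).1 h3)
  exact ShortComplex.ShortExact.acyclic_X₃ (S := (tele K).map G)
    (HomologicalComplex.shortExact_of_degreewise_shortExact _ fun p => ((splitting K p).map F).shortExact) h4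

include hcolim in
/-- Complexes of acyclic objects compute the derived functor. -/
theorem isIso_unit (K : CochainComplex A ℤ) (hA : ∀ n, L17.GrothSS.RAcyclic F (K.X n)) :
    IsIso (α.app ((qA).obj K)) := by
  obtain ⟨J, s, hJ, hs, hinj⟩ := KInjTransfer.exists_resolution.{v} K
  haveI := hJ
  haveI := hs
  have hC : ∀ n, L17.GrothSS.RAcyclic F ((CochainComplex.mappingCone s).X n) := fun n q hq =>
    IsZero.of_iso
      (L17.GrothSS.isZero_rightDerived_X₂ F
        (ShortComplex.Splitting.ofHasBinaryBiproduct (K.X (n + 1)) (J.X n)).shortExact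
        (hA (n + 1)) (fun q' hq' => by
          obtain ⟨k, rfl⟩ : ∃ k, q' = k + 1 := ⟨q' - 1, by omega⟩
          exact F.isZero_rightDerived_obj_injective_succ k _) q hq)
      ((F.rightDerived q).mapIso (HomologicalComplex.homotopyCofiber.XIsoBiprod s n (n + 1) rfl))
  haveI : QuasiIso ((F.mapHomologicalComplex (.up ℤ)).map s) := by
    rw [L17.GrothSS.quasiIso_iff_cone]
    exact fun n => (acyclic_map F hcolim α _ ((L17.GrothSS.quasiIso_iff_cone s).1 hs) hC n).of_iso
      (CochainComplex.mappingCone.mapHomologicalComplexIso s F)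
  exact isIso_of_resolution F α s

end

end Groth.L10.AcycColim
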