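import Groth.Prelude.Def_DerLim
import Mathlib.Algebra.Homology.HomologicalComplexLimits
import Mathlib.Algebra.Homology.HomologicalComplexAbelian
import Mathlib.Algebra.Homology.HomologySequenceLemmas
import Mathlib.Algebra.Homology.Embedding.CochainComplex
import Mathlib.Algebra.Homology.ShortComplex.Abelian
import Mathlib.Algebra.BigOperators.Intervals

/-! # A complex as a degreewise split telescope of its stupid truncations -/

universe v u

open CategoryTheory CategoryTheory.Limits ZeroObject

set_option backward.defeqAttrib.useBackward true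
set_option backward.isDefEq.respectTransparency false
set_option backward.isDefEq.respectTransparency.types false

namespace Groth.L10.AcycColim

variable {A : Type u} [Category.{v} A] [Abelian A] (K : CochainComplex A ℤ)

/-- The terms of the stupid truncation in degrees `≥ -n`. -/
noncomputable def X' (n : ℕ) (p : ℤ) : A := if -(n : ℤ) ≤ p then K.X p else 0

/-- The inclusion of a term. -/
noncomputable def inc (n : ℕ) (p : ℤ) : X' K n p ⟶ K.X p :=
  if h : -(n : ℤ) ≤ p then eqToHom (if_pos h) else 0

/-- The projection to a term. -/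
noncomputable def prj (n : ℕ) (p : ℤ) : K.X p ⟶ X' K n p :=
  if h : -(n : ℤ) ≤ p then eqToHom (if_pos h).symm else 0

theorem isZero_X' {n : ℕ} {p : ℤ} (h : ¬ -(n : ℤ) ≤ p) : IsZero (X' K n p) := by
  rw [X', if_neg h]; exact isZero_zero A

theorem inc_prj (n : ℕ) (p : ℤ) : inc K n p ≫ prj K n p = 𝟙 _ := by
  by_cases h : -(n : ℤ) ≤ p
  · simp [inc, prj, dif_pos h]
  · exact (isZero_X' K h).eq_of_src _ _

theorem prj_inc {n : ℕ} {p : ℤ} (h : -(n : ℤ) ≤ p) : prj K n p ≫ inc K n p = 𝟙 _ := by
  simp [inc, prj, dif_pos h]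

theorem inc_d_prj_inc (n : ℕ) {p q : ℤ} (hpq : p + 1 = q) :
    inc K n p ≫ K.d p q ≫ prj K n q ≫ inc K n q = inc K n p ≫ K.d p q := by
  by_cases h : -(n : ℤ) ≤ p
  · rw [prj_inc K (show -(n : ℤ) ≤ q by omega), Category.comp_id]
  · exact (isZero_X' K h).eq_of_src _ _

/-- The stupid truncation in degrees `≥ -n`. -/
noncomputable def sig (n : ℕ) : CochainComplex A ℤ where
  X := X' K n
  d p q := inc K n p ≫ K.d p q ≫ prj K n q
  shape p q h := by rw [K.shape p q h, zero_comp, comp_zero]
  d_comp_d' p q r hpq _ := by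
    simp only [Category.assoc]
    rw [reassoc_of% (inc_d_prj_inc K n hpq)]
    simp

instance (n : ℕ) : (sig K n).IsStrictlyGE (-(n : ℤ)) :=
  (CochainComplex.isStrictlyGE_iff _ _).2 fun _ h => isZero_X' K (by omega)

/-- The inclusion in the complex. -/
noncomputable def incl (n : ℕ) : sig K n ⟶ K where
  f := inc K n
  comm' p q hpq := by
    dsimp [sig]
    simp only [Category.assoc]
    rw [inc_d_prj_inc K n hpq]

/-- The transition maps. -/
noncomputable def step (n : ℕ) : sig K n ⟶ sig K (n + 1) where
  f p := inc K n p ≫ prj K (n + 1) p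
  comm' p q hpq := by
    obtain rfl : p + 1 = q := hpq
    dsimp [sig]
    simp only [Category.assoc]
    by_cases h : -(n : ℤ) ≤ p
    · rw [reassoc_of% (prj_inc K (show -((n + 1 : ℕ) : ℤ) ≤ p by omega)),
        reassoc_of% (prj_inc K (show -(n : ℤ) ≤ p + 1 by omega))]
    · exact (isZero_X' K h).eq_of_src _ _

variable [HasCoproductsOfShape ℕ A]

/-- `1 - shift` on the sum of the truncations. -/
noncomputable abbrev oneSub : ∐ sig K ⟶ ∐ sig K := 𝟙 _ - DerLim.shiftMap (sig K) (step K)

/-- The sum of the inclusions. -/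
noncomputable abbrev toCx : ∐ sig K ⟶ K := Sigma.desc (incl K)

theorem oneSub_toCx : oneSub K ≫ toCx K = 0 := by
  refine Sigma.hom_ext _ _ fun n => ?_
  have h : step K n ≫ incl K (n + 1) = incl K n := HomologicalComplex.hom_ext _ _ fun p => by
    dsimp [step, incl]
    by_cases hp : -(n : ℤ) ≤ p
    · rw [Category.assoc, prj_inc K (show -((n + 1 : ℕ) : ℤ) ≤ p by omega), Category.comp_id]
    · exact (isZero_X' K hp).eq_of_src _ _
  simp [DerLim.shiftMap, h]

/-- The telescope. -/
noncomputable def tele : ShortComplex (CochainComplex A ℤ) := ShortComplex.mk (oneSub K) (toCx K) (oneSub_toCx K)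

variable (p : ℤ)

/-- The image of the k-th summand of a term. -/
noncomputable def cmp (k : ℕ) : K.X p ⟶ (∐ sig K).X p := prj K k p ≫ (Sigma.ι (sig K) k).f p

theorem inc_cmp_self (k : ℕ) : inc K k p ≫ cmp K p k = (Sigma.ι (sig K) k).f p := by
  rw [cmp, ← Category.assoc, inc_prj]
  exact Category.id_comp _

theorem step_ι (k : ℕ) : (step K k).f p ≫ (Sigma.ι (sig K) (k + 1)).f p = inc K k p ≫ cmp K p (k + 1) :=
  Category.assoc _ _ _

/-- The telescope splits in every degree. -/
noncomputable def splitting :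
    ((tele K).map (HomologicalComplex.eval A (ComplexShape.up ℤ) p)).Splitting :=
  let N := (-p).toNat
  let hl := isColimitOfHasCoproductOfPreservesColimit (HomologicalComplex.eval A (ComplexShape.up ℤ) p) (sig K)
  let a : ℕ → (K.X p ⟶ (∐ sig K).X p) := cmp K p
  let r : (∐ sig K).X p ⟶ (∐ sig K).X p :=
    Cofan.IsColimit.desc hl fun n => -∑ k ∈ Finset.Ico N n, inc K n p ≫ a k
  have hι : ∀ n, (Sigma.ι (sig K) n).f p ≫ r = -∑ k ∈ Finset.Ico N n, inc K n p ≫ a k := fun n =>
    Cofan.IsColimit.fac hl _ n
  have hsub : ∀ k, (Sigma.ι (sig K) k).f p ≫ (oneSub K).f p = inc K k p ≫ (a k - a (k + 1)) := fun k => by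
    rw [← HomologicalComplex.comp_f, Preadditive.comp_sub, Category.comp_id]
    simp only [DerLim.shiftMap, Sigma.ι_desc, HomologicalComplex.sub_f_apply, HomologicalComplex.comp_f,
      Preadditive.comp_sub, a, inc_cmp_self, step_ι]
  have htoCx : ∀ k, (Sigma.ι (sig K) k).f p ≫ (toCx K).f p = inc K k p := fun k => by
    rw [← HomologicalComplex.comp_f, Sigma.ι_desc]
    rfl
  { r := r
    s := a N
    f_r := by
      refine Cofan.IsColimit.hom_ext hl _ _ fun n => ?_
      show (Sigma.ι (sig K) n).f p ≫ (oneSub K).f p ≫ r = (Sigma.ι (sig K) n).f p ≫ 𝟙 _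
      rw [reassoc_of% (hsub n), Preadditive.sub_comp, Category.comp_id]
      by_cases hn : -(n : ℤ) ≤ p
      · have hpn : ∀ k : ℕ, -(k : ℤ) ≤ p → a k ≫ r = -∑ j ∈ Finset.Ico N k, a j := fun k hk => by
          simp only [a]
          rw [cmp, Category.assoc, hι, Preadditive.comp_neg, Preadditive.comp_sum]
          refine congrArg _ (Finset.sum_congr rfl fun j _ => ?_)
          rw [← Category.assoc, prj_inc K hk, Category.id_comp]
        rw [hpn n hn, hpn (n + 1) (by omega), Finset.sum_Ico_succ_top (show N ≤ n by omega)]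
        simp [a, inc_cmp_self]
      · exact (isZero_X' K hn).eq_of_src _ _
    s_g := by
      show a N ≫ (toCx K).f p = 𝟙 _
      simp only [a]
      rw [cmp, Category.assoc, htoCx, prj_inc K (show -((-p).toNat : ℤ) ≤ p by omega)]
    id := by
      refine Cofan.IsColimit.hom_ext hl _ _ fun n => ?_
      show (Sigma.ι (sig K) n).f p ≫ (r ≫ (oneSub K).f p + (toCx K).f p ≫ a N) = (Sigma.ι (sig K) n).f p ≫ 𝟙 _
      rw [Category.comp_id, Preadditive.comp_add, reassoc_of% (hι n), reassoc_of% (htoCx n), Preadditive.neg_comp,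
        Preadditive.sum_comp]
      by_cases hn : -(n : ℤ) ≤ p
      · have hk : ∀ k ∈ Finset.Ico N n, (inc K n p ≫ a k) ≫ (oneSub K).f p = inc K n p ≫ (a k - a (k + 1)) := by
          intro k hk
          have hk' : -(k : ℤ) ≤ p := by have := Finset.mem_Ico.1 hk; omega
          simp only [a, cmp, Category.assoc]
          rw [hsub k, ← Category.assoc (prj K k p), prj_inc K hk', Category.id_comp]
          rfl
        rw [Finset.sum_congr rfl hk, ← Preadditive.comp_sum, ← neg_neg (∑ k ∈ Finset.Ico N n, (a k - a (k + 1))),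
          ← Finset.sum_neg_distrib]
        simp only [neg_sub, Preadditive.comp_neg, neg_neg]
        rw [Finset.sum_Ico_sub a (show N ≤ n by omega), Preadditive.comp_sub]
        simp [a, inc_cmp_self]
      · exact (isZero_X' K hn).eq_of_src _ _ }

/-- The telescope is short exact. -/
theorem shortExact_tele : (tele K).ShortExact :=
  HomologicalComplex.shortExact_of_degreewise_shortExact _ fun p => (splitting K p).shortExact

omit [HasCoproductsOfShape ℕ A] in
/-- The first map of a short exact sequence with acyclic cokernel is a quasi-isomorphism. -/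
theorem quasiIso_f {S : ShortComplex (CochainComplex A ℤ)} (hS : S.ShortExact) (h₃ : S.X₃.Acyclic) :
    QuasiIso S.f where
  quasiIsoAt i := by
    rw [quasiIsoAt_iff_isIso_homologyMap]
    have hz : ∀ j, IsZero (S.X₃.homology j) := fun j => (S.X₃.exactAt_iff_isZero_homology j).1 (h₃ j)
    haveI : Mono (HomologicalComplex.homologyMap S.f i) :=
      (hS.homology_exact₁ (i - 1) i (by simp)).mono_g ((hz (i - 1)).eq_of_src _ _)
    haveI : Epi (HomologicalComplex.homologyMap S.f i) := (hS.homology_exact₂ i).epi_f ((hz i).eq_of_tgt _ _)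
    exact isIso_of_mono_of_epi _

end Groth.L10.AcycColim
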